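import Mathlib
import Groth.Prelude.Def_HopfRep
import Groth.Prelude.Def_SGA3
import Groth.Agent.Lib.Helper6.LinRed.LRa

/-!
# The invariants of a normal subgroup form a subcomodule (helper6, S7968)

For a normal Hopf ideal `I` of a commutative Hopf algebra `A` over a field and an `A`-comodule `V`,
the subspace `V^N = {v | (id ⊗ π) ρ v = v ⊗ 1}` is an `A`-subcomodule.  The proof is the Hopf
algebra form of `n g w = g (g⁻¹ n g) w = g w`, carried out with the universal points
`n = (π ⊗ 1)`, `g = (1 ⊗ id)` with values in `(A ⧸ I) ⊗ A`.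
-/

set_option autoImplicit false
set_option linter.unusedSectionVars false
set_option linter.unusedVariables false
set_option linter.unusedSimpArgs false
set_option linter.style.haveILetI false
set_option linter.overlappingInstances false
set_option maxHeartbeats 800000
set_option synthInstance.maxHeartbeats 400000

noncomputable section

namespace Groth.Agent.Lib.Helper6.NormFix

open TensorProduct WithConv

universe u v

section Points

variable {k A : Type u} [Field k] [CommRing A] [HopfAlgebra k A]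

theorem monoid_aux {M : Type*} [Monoid M] (n g gi : M) (h : g * gi = 1) :
    n * g = g * (gi * n * g) := by
  rw [← mul_assoc, ← mul_assoc, h, one_mul]

/-- `conv3` is the triple convolution product. -/
theorem conv3_eq {C : Type u} [CommRing C] [Algebra k C] (f g h : A →ₐ[k] C) :
    Dyn.conv3 k A f g h = (toConv f * toConv g * toConv h).ofConv := by
  unfold Dyn.conv3
  rw [AlgHom.convMul_def, AlgHom.convMul_def]
  congr 1
  rw [← AlgHom.comp_assoc]
  congr 1
  rw [← Algebra.TensorProduct.map_comp, AlgHom.comp_id, AlgHom.comp_assoc]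

/-- `g * g⁻¹ = 1` for points with values in any commutative algebra. -/
theorem mul_comp_antipode {C : Type u} [CommRing C] [Algebra k C] (g : A →ₐ[k] C) :
    toConv g * toConv (g.comp (HopfAlgebra.antipodeAlgHom k A)) = 1 := by
  have h0 : toConv (AlgHom.id k A) * toConv (HopfAlgebra.antipodeAlgHom k A) = 1 := by
    have h1 := mul_inv_cancel (toConv (AlgHom.id k A))
    have h2 : (toConv (AlgHom.id k A))⁻¹ = toConv (HopfAlgebra.antipodeAlgHom k A) := by
      show toConv ((AlgHom.id k A).comp (HopfAlgebra.antipodeAlgHom k A)) = _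
      rw [AlgHom.id_comp]
    rw [h2] at h1
    exact h1
  have h := AlgHom.comp_convMul_distrib (R := k) g
    (toConv (AlgHom.id k A)) (toConv (HopfAlgebra.antipodeAlgHom k A))
  rw [h0] at h
  apply WithConv.ofConv_injective
  simp only [ofConv_toConv, AlgHom.comp_id] at h
  rw [← h]
  ext a
  simp

variable (k) (I : Ideal A)

/-- the universal point of `N = Spec (A ⧸ I)` -/
def ptN : A →ₐ[k] (A ⧸ I) ⊗[k] A :=
  (Algebra.TensorProduct.includeLeft : (A ⧸ I) →ₐ[k] (A ⧸ I) ⊗[k] A).comp
    (Ideal.Quotient.mkₐ k I)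

/-- the universal point of `G = Spec A` -/
def ptG : A →ₐ[k] (A ⧸ I) ⊗[k] A := Algebra.TensorProduct.includeRight

/-- `g⁻¹ n g` -/
def kap : A →ₐ[k] (A ⧸ I) ⊗[k] A :=
  (toConv ((ptG k I).comp (HopfAlgebra.antipodeAlgHom k A)) * toConv (ptN k I) * toConv (ptG k I)).ofConv

theorem kap_eq_zero (hI : SGA3.IsNormalHopfIdeal k A I) (a : A) (ha : a ∈ I) : kap k I a = 0 := by
  have hN : ∀ b ∈ I, ptN k I b = 0 := by
    intro b hb
    show (Algebra.TensorProduct.includeLeft : (A ⧸ I) →ₐ[k] (A ⧸ I) ⊗[k] A)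
      (Ideal.Quotient.mkₐ k I b) = 0
    rw [Ideal.Quotient.mkₐ_eq_mk, Ideal.Quotient.eq_zero_iff_mem.mpr hb, map_zero]
  have h := hI ((A ⧸ I) ⊗[k] A) ((ptG k I).comp (HopfAlgebra.antipodeAlgHom k A)) (ptN k I) hN a ha
  rw [conv3_eq] at h
  have h2 : ((ptG k I).comp (HopfAlgebra.antipodeAlgHom k A)).comp
      (HopfAlgebra.antipodeAlgHom k A) = ptG k I := by
    rw [AlgHom.comp_assoc, LinRed.antipodeAlgHom_comp_self, AlgHom.comp_id]
  rw [h2] at h
  exact h

/-- `n * g = g * (g⁻¹ n g)` -/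
theorem ptN_mul_ptG : toConv (ptN k I) * toConv (ptG k I) = toConv (ptG k I) * toConv (kap k I) := by
  have h1 : toConv (kap k I) =
      toConv ((ptG k I).comp (HopfAlgebra.antipodeAlgHom k A)) * toConv (ptN k I) * toConv (ptG k I) :=
    rfl
  rw [h1]
  exact monoid_aux (M := WithConv (A →ₐ[k] (A ⧸ I) ⊗[k] A)) (toConv (ptN k I)) (toConv (ptG k I))
    (toConv ((ptG k I).comp (HopfAlgebra.antipodeAlgHom k A))) (mul_comp_antipode (ptG k I))

/-- `κ` descended to the quotient -/
def kapBar (hI : SGA3.IsNormalHopfIdeal k A I) : (A ⧸ I) →ₐ[k] (A ⧸ I) ⊗[k] A :=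
  Ideal.Quotient.liftₐ I (kap k I) (kap_eq_zero k I hI)

theorem kapBar_comp (hI : SGA3.IsNormalHopfIdeal k A I) :
    (kapBar k I hI).comp (Ideal.Quotient.mkₐ k I) = kap k I :=
  Ideal.Quotient.liftₐ_comp I (kap k I) (kap_eq_zero k I hI)

/-- `a ⊗ x ↦ g a * κ̄ x` -/
def psiBar (hI : SGA3.IsNormalHopfIdeal k A I) : A ⊗[k] (A ⧸ I) →ₐ[k] (A ⧸ I) ⊗[k] A :=
  Algebra.TensorProduct.productMap (ptG k I) (kapBar k I hI)

theorem psiBar_tmul_one (hI : SGA3.IsNormalHopfIdeal k A I) (a : A) :
    psiBar k I hI (a ⊗ₜ[k] (1 : A ⧸ I)) = (1 : A ⧸ I) ⊗ₜ[k] a := by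
  show ptG k I a * kapBar k I hI 1 = _
  rw [map_one, mul_one]
  rfl

/-- the key identity of algebra maps `A → (A ⧸ I) ⊗ A`. -/
theorem key (hI : SGA3.IsNormalHopfIdeal k A I) :
    (Algebra.TensorProduct.map (Ideal.Quotient.mkₐ k I) (AlgHom.id k A)).comp
        (Bialgebra.comulAlgHom k A) =
      (psiBar k I hI).comp ((Algebra.TensorProduct.map (AlgHom.id k A) (Ideal.Quotient.mkₐ k I)).comp
        (Bialgebra.comulAlgHom k A)) := by
  have hL : (Algebra.TensorProduct.map (Ideal.Quotient.mkₐ k I) (AlgHom.id k A)).comp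
      (Bialgebra.comulAlgHom k A) = (toConv (ptN k I) * toConv (ptG k I)).ofConv := by
    rw [AlgHom.convMul_def]
    show _ = (Algebra.TensorProduct.lmul' (S := (A ⧸ I) ⊗[k] A) k).comp
      ((Algebra.TensorProduct.map (ptN k I) (ptG k I)).comp (Bialgebra.comulAlgHom k A))
    rw [← AlgHom.comp_assoc]
    congr 1
    ext a
    · simp [ptN, ptG]
    · simp [ptN, ptG]
  have hR : (psiBar k I hI).comp
      ((Algebra.TensorProduct.map (AlgHom.id k A) (Ideal.Quotient.mkₐ k I)).comp
        (Bialgebra.comulAlgHom k A)) = (toConv (ptG k I) * toConv (kap k I)).ofConv := by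
    rw [AlgHom.convMul_def]
    show _ = (Algebra.TensorProduct.lmul' (S := (A ⧸ I) ⊗[k] A) k).comp
      ((Algebra.TensorProduct.map (ptG k I) (kap k I)).comp (Bialgebra.comulAlgHom k A))
    rw [← AlgHom.comp_assoc, ← AlgHom.comp_assoc]
    congr 1
    rw [← kapBar_comp k I hI]
    ext a
    · simp [psiBar]
    · simp [psiBar]
  rw [hL, hR, ptN_mul_ptG]

end Points

end Groth.Agent.Lib.Helper6.NormFix
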